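import Cfsg.Agent.Lib.Ab.Walter
import Cfsg.Agent.Lib.GW.Cor
import Cfsg.Agent.Lib.FGS.ClassSize
import Cfsg.Agent.Lib.AltC.Red

/-!
# Class sizes of elements of prime power order dividing `m`

The property passes to subnormal subgroups and quotients. With abelian, cyclic or dihedral
Sylow 2-subgroups and `4 ∤ m` the group is solvable.
-/

set_option autoImplicit false

namespace Cfsg.Lib.PPI

open Subgroup Cfsg.Lib Cfsg.Lib.BG Cfsg.Lib.JR Cfsg.Lib.GW Cfsg.Lib.FGS Cfsg.Lib.Transfer Cfsg.Lib.PSL2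
open scoped MatrixGroups

universe u

variable {G G' : Type*} [Group G] [Group G'] {m : ℕ}

/-- Elements of prime power order. -/
def PP (x : G) : Prop := ∃ r k : ℕ, r.Prime ∧ orderOf x = r ^ k

/-- All class sizes of elements of prime power order divide `m`. -/
def D (m : ℕ) (G : Type*) [Group G] : Prop := ∀ x : G, PP x → (𝐂[x]).index ∣ m

/-- Some element of prime power order has a centralizer of odd order. -/
def OC (G : Type*) [Group G] : Prop := ∃ y : G, PP y ∧ Odd (Nat.card 𝐂[y])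

theorem pp_of_mem {p : ℕ} (hp : p.Prime) {P : Subgroup G} (hP : IsPGroup p P) {x : G} (hx : x ∈ P) : PP x := by
  obtain ⟨k, hk⟩ := hP ⟨x, hx⟩
  obtain ⟨j, -, hj⟩ := (Nat.dvd_prime_pow hp).1
    (orderOf_dvd_of_pow_eq_one (show x ^ p ^ k = 1 from congrArg Subtype.val hk))
  exact ⟨p, j, hp, hj⟩

theorem D.surj [Finite G] (h : D m G) {f : G →* G'} (hf : Function.Surjective f) : D m G' :=
  fun y ⟨r, k, hr, hk⟩ => by
  obtain ⟨x, rfl, j, hj⟩ := AltC.exists_lift hr f hf ⟨k, hk⟩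
  exact (index_cent1_map_dvd hf x).trans (h x ⟨r, j, hr, hj⟩)

theorem D.nml [Finite G] (h : D m G) (N : Subgroup G) [N.Normal] : D m N := fun x ⟨r, k, hr, hk⟩ =>
  (index_cent1_subtype_dvd N x).trans (h x ⟨r, k, hr, by rwa [orderOf_coe]⟩)

theorem D.sn [Finite G] (h : D m G) {L : Subgroup G} (hL : L.IsSubnormal) : D m L := by
  induction hL with
  | top => exact h.nml ⊤
  | step H K hle _ hN ih =>
    exact (ih.nml (H.subgroupOf K)).surj (f := (subgroupOfEquivOfLe hle).toMonoidHom)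
      (subgroupOfEquivOfLe hle).surjective

theorem card_cent1_equiv (e : G ≃* G') (y : G) : Nat.card 𝐂[e y] = Nat.card 𝐂[y] := by
  refine (Nat.card_congr (e.toEquiv.subtypeEquiv fun x => ?_)).symm
  simp only [mem_centralizer_singleton_iff, MulEquiv.toEquiv_eq_coe, EquivLike.coe_coe]
  rw [← map_mul, ← map_mul, e.apply_eq_iff_eq]

theorem OC.equiv (h : OC G') (e : G ≃* G') : OC G := by
  obtain ⟨y, ⟨r, k, hr, hk⟩, ho⟩ := h
  exact ⟨e.symm y, ⟨r, k, hr, by rwa [e.symm.orderOf_eq]⟩, by rwa [card_cent1_equiv]⟩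

theorem OC.dvd (h : OC G) (hD : D m G) {k : ℕ} (hk : 2 ^ k ∣ Nat.card G) : 2 ^ k ∣ m := by
  obtain ⟨y, hy, ho⟩ := h
  rw [← (𝐂[y]).card_mul_index] at hk
  exact ((Nat.Coprime.pow_left k ho.coprime_two_left).dvd_of_dvd_mul_left hk).trans (hD y hy)

theorem oc_unip {F : Type*} [Field F] [Finite F] (ho : Odd (Nat.card F)) : OC PSL(2, F) := by
  have := Fintype.ofFinite F
  obtain ⟨p, _, n, hp, hn⟩ := FiniteField.card' F
  obtain ⟨y, hy, y1⟩ := exists_ne_one (unipL_ne_bot (inf : P1 F))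
  refine ⟨y, pp_of_mem hp (.of_card (n := n) ?_) hy, ?_⟩
  · rw [card_unipL, Nat.card_eq_fintype_card, hn]
  · rwa [centralizer_of_mem_unipL hy y1, card_unipL]

theorem oc_psl {F : Type*} [Field F] [Finite F] (h4 : 4 ≤ Nat.card F) : OC PSL(2, F) := by
  by_cases ho : Odd (Nat.card F)
  · exact oc_unip ho
  have := isSimpleGroup_psl h4
  obtain ⟨r, hr, hd, h2⟩ : ∃ r, r.Prime ∧ r ∣ Nat.card PSL(2, F) ∧ r ≠ 2 := by
    by_contra! c
    have h1 : IsPGroup 2 PSL(2, F) :=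
      .of_card (Nat.eq_prime_pow_of_unique_prime_dvd Nat.card_pos.ne' fun hq hd => c _ hq hd)
    have := h1.isNilpotent
    exact not_isMulCommutative_psl (F := F) ⟨⟨IsSimpleGroup.comm_iff_isSolvable.2 inferInstance⟩⟩
  have := Fact.mk hr
  obtain ⟨y, hy⟩ := exists_prime_orderOf_dvd_card' r hd
  refine ⟨y, ⟨r, 1, hr, by rw [hy, pow_one]⟩, Nat.not_even_iff_odd.1 fun c => ?_⟩
  obtain ⟨t, ht⟩ := exists_prime_orderOf_dvd_card' 2 c.two_dvd
  obtain ⟨k, hk⟩ := Ab.psl_two_cent ho (t := t) (by rwa [orderOf_coe]) ⟨y, mem_cent1_comm t.2⟩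
  exact h2 ((Nat.prime_dvd_prime_iff_eq hr Nat.prime_two).1 (hr.dvd_of_dvd_pow
    (hy ▸ orderOf_dvd_of_pow_eq_one (show y ^ 2 ^ k = 1 from congrArg Subtype.val hk))))

theorem oc_alt7 : OC (alternatingGroup (Fin 7)) := by
  let y : alternatingGroup (Fin 7) := ⟨c[0, 1, 2, 3, 4, 5, 6], Equiv.Perm.mem_alternatingGroup.2 (by decide)⟩
  have := Fact.mk Nat.prime_seven
  refine ⟨y, ⟨7, 1, Nat.prime_seven, orderOf_eq_prime (by decide +kernel) (by decide)⟩, ?_⟩
  have h := Equiv.Perm.nat_card_centralizer (y : Equiv.Perm (Fin 7))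
  rw [show (y : Equiv.Perm (Fin 7)).cycleType = {7} by decide +kernel] at h
  have h7 : Nat.card 𝐂[(y : Equiv.Perm (Fin 7))] = 7 := h.trans (by decide)
  have : 𝐂[y] = (𝐂[(y : Equiv.Perm (Fin 7))]).subgroupOf _ := by
    ext z; simp [mem_subgroupOf, mem_centralizer_singleton_iff, Subtype.ext_iff]
  rw [this, ← inf_subgroupOf_right, Nat.card_congr (subgroupOfEquivOfLe inf_le_right).toEquiv]
  exact Odd.of_dvd_nat (by decide : Odd 7) ((card_dvd_of_le inf_le_left).trans h7.dvd)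

theorem jrs_four [Finite G] {F : Type*} [Field F] [Finite F] {t : G} {E N : Subgroup G} (j : JRS F t E N)
    (hD : D m G) : 4 ∣ m := by
  obtain ⟨y, ⟨r, k, hr, hk⟩, ho⟩ := (oc_unip j.odd).equiv j.iso.some
  have hy : (y : G) ∈ 𝐂[t] := j.dp.2.1 (j.le y.2)
  obtain ⟨S, hS, hS1⟩ := Syl.exists_ge (p := 2) (M := 𝐂[(y : G)])
    (IsPGroup.of_card (n := 1) (by rw [Nat.card_zpowers, j.ord]; rfl) : IsPGroup 2 (zpowers t))
    (zpowers_le.2 (mem_cent1_comm hy))
  have ht := hS1 (mem_zpowers t)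
  have key : ∀ x ∈ S, x ∈ N → x = 1 := fun x hx hN => by
    obtain ⟨a, ha⟩ := hS.pgroup ⟨x, hx⟩
    have h1 : orderOf x ∣ 2 ^ a := orderOf_dvd_of_pow_eq_one (congrArg Subtype.val ha)
    have h2 : (⟨x, hN⟩ : N) ∈ 𝐂[y] :=
      mem_centralizer_singleton_iff.2 (Subtype.ext (mem_centralizer_singleton_iff.1 (hS.le hx)))
    have h3 := orderOf_dvd_natCard _ h2
    rw [orderOf_mk] at h3
    exact orderOf_eq_one_iff.1 (Nat.eq_one_of_dvd_coprimes (Nat.Coprime.pow_left a ho.coprime_two_left) h1 h3)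
  have h2 : S ≤ zpowers t := fun x hx => by
    rcases j.mem_syl hS.pgroup ht hx with h | h
    · rw [key x hx h]; exact one_mem _
    · rw [eq_inv_of_mul_eq_one_right (key _ (mul_mem ht hx) h)]; exact inv_mem (mem_zpowers t)
  obtain ⟨T, hT⟩ := j.exists_syl
  have h8 : 8 ∣ Nat.card G := j.syl_card (Syl.of_sylow_top T) hT ▸ card_subgroup_dvd_card _
  refine Dvd.dvd.trans ?_ (hD y ⟨r, k, hr, by rwa [orderOf_coe]⟩)
  rw [← (𝐂[(y : G)]).card_mul_index, ← BG.card_mul_relIndex hS.le, le_antisymm h2 hS1, Nat.card_zpowers, j.ord,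
    mul_assoc] at h8
  have h4 : 2 ^ 2 ∣ _ := Nat.dvd_of_mul_dvd_mul_left two_pos (show 2 * 4 ∣ _ from h8)
  refine (Nat.Coprime.pow_left 2 (Nat.prime_two.coprime_iff_not_dvd.2 ?_)).dvd_of_dvd_mul_left h4
  rw [← le_antisymm h2 hS1]; exact hS.not_dvd'

theorem dc_surj [Finite G] (h : DC G) {f : G →* G'} (hf : Function.Surjective f) : DC G' := fun T hT => by
  have : Finite G' := Finite.of_surjective f hf
  obtain ⟨P, hP⟩ := Syl.exists 2 (T.comap f)
  have h1 := hP.map f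
  rw [map_comap_eq_self_of_surjective hf] at h1
  have e : P.map f = T := h1.eq_self (PiGrp.p_iff.2 hT)
  rcases h P hP.pgroup with hc | ⟨a, b, m, hm⟩
  · exact .inl (e ▸ cyclic_map f hc)
  have hs : zpowers (f a) ⊔ zpowers (f b) = T := by
    rw [← e, ← hm.sup, Subgroup.map_sup, MonoidHom.map_zpowers, MonoidHom.map_zpowers]
  by_cases hb : f b ∈ zpowers (f a)
  · exact .inl (by rw [← hs, sup_eq_left.2 (zpowers_le.2 hb)]; infer_instance)
  obtain ⟨j, -, hj⟩ := (Nat.dvd_prime_pow Nat.prime_two).1 (hm.ord ▸ orderOf_map_dvd f a)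
  rcases j with _ | j
  · exact .inl (by rw [← hs, orderOf_eq_one_iff.1 hj, zpowers_one_eq_bot, bot_sup_eq]; infer_instance)
  · exact .inr ⟨f a, f b, j, hj, hb, hs, by simpa using congrArg f hm.conj,
      by simpa using congrArg f hm.sq, by simp⟩

theorem four_psl {F : Type*} [Field F] [Finite F] (h4 : 4 ≤ Nat.card F) : 2 ^ 2 ∣ Nat.card PSL(2, F) := by
  by_cases ho : Odd (Nat.card F)
  · obtain ⟨V, hV⟩ := exists_four_psl ho
    exact (show 2 ^ 2 = _ from hV.card_four.symm).dvd.trans (card_subgroup_dvd_card V)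
  have := Fintype.ofFinite F
  obtain ⟨p, _, n, hp, hn⟩ := FiniteField.card' F
  rw [← Nat.card_eq_fintype_card] at hn
  obtain rfl : p = 2 := ((Nat.prime_dvd_prime_iff_eq Nat.prime_two hp).1
    (Nat.prime_two.dvd_of_dvd_pow (hn ▸ (Nat.not_odd_iff_even.1 ho).two_dvd))).symm
  refine Dvd.dvd.trans ?_ (card_subgroup_dvd_card (unipL (inf : P1 F)))
  rw [card_unipL, hn]
  refine pow_dvd_pow 2 (not_lt.1 fun c => ?_)
  have : (n : ℕ) = 1 := by have := n.pos; omega
  rw [hn, this] at h4; omega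

theorem simple_four [Finite G] [IsSimpleGroup G] (hG : ¬ IsMulCommutative G) (h2 : Ab2 G ∨ DC G)
    (hD : D m G) : 4 ∣ m := by
  have psl : ∀ (F : Type) [Field F] [Fintype F], 4 ≤ Fintype.card F → (G ≃* PSL(2, F)) → 4 ∣ m :=
    fun F _ _ h4 e => by
    rw [← Nat.card_eq_fintype_card] at h4
    exact ((oc_psl h4).equiv e).dvd hD (k := 2) (Nat.card_congr e.toEquiv ▸ four_psl h4)
  rcases h2 with h2 | h2
  · rcases walter hG h2 with ⟨F, _, _, h4, ⟨e⟩⟩ | ⟨F, _, _, t, E, N, -, j, -⟩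
    exacts [psl F h4 e, jrs_four j hD]
  · rcases known_of_perfect h2 (core_of_simple (Small.two_dvd_card_of_simple hG))
      (Small.commutator_eq_top_of_simple hG) with ⟨F, _, _, -, h4, ⟨e⟩⟩ | ⟨⟨e⟩⟩
    · exact psl F h4 e
    refine (oc_alt7.equiv e).dvd hD (k := 2) ?_
    rw [Nat.card_congr e.toEquiv, nat_card_alternatingGroup, Nat.card_fin]
    decide

theorem solv_aux (hm : ¬ 4 ∣ m) (n : ℕ) : ∀ (G : Type u) [Group G] [Finite G], Nat.card G = n →
    Ab2 G ∨ DC G → D m G → Group.IsSolvable G := by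
  induction n using Nat.strong_induction_on with | _ n ih => ?_
  intro G _ _ hn h2 hD
  by_cases hs : ∀ N : Subgroup G, N.Normal → N = ⊥ ∨ N = ⊤
  · by_cases hG : IsMulCommutative G
    · exact Group.isSolvable_of_comm fun a b => hG.1.1 a b
    have : Nontrivial G := by
      by_contra c
      have := not_nontrivial_iff_subsingleton.1 c
      exact hG ⟨⟨fun _ _ => Subsingleton.elim _ _⟩⟩
    have : IsSimpleGroup G := ⟨hs⟩
    exact absurd (simple_four hG h2 hD) hm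
  push Not at hs
  obtain ⟨N, hN, h0, h1⟩ := hs
  have hf := QuotientGroup.mk'_surjective N
  have := ih _ (hn ▸ card_quotient_lt h0) _ rfl (h2.imp (·.quot N) (dc_surj · hf)) (hD.surj hf)
  have := ih _ (hn ▸ card_lt_of_ne_top h1) N rfl (h2.imp (·.sub N) (·.subgroup N)) (hD.nml N)
  exact Group.isSolvable_of_ker_le_range N.subtype (QuotientGroup.mk' N) (by simp)

theorem D.solv [Finite G] (hD : D m G) (hm : ¬ 4 ∣ m) (h2 : Ab2 G ∨ DC G) : Group.IsSolvable G :=
  solv_aux hm _ G rfl h2 hD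

end Cfsg.Lib.PPI
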