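import Cfsg.Agent.Lib.PPI.Bas

/-!
# The partition of `T / Z(T)` by the centres of centralizers

If all non-central elements of prime power order have class size `m`, `m` even, and the Sylow
2-subgroup of `G / Z(G)` has an element of order 4, then it is dihedral and `4 ∤ m`.
-/

set_option autoImplicit false

namespace Cfsg.Lib.PPI

open Subgroup Cfsg.Lib Cfsg.Lib.BG Cfsg.Lib.GW Cfsg.Lib.FGS Cfsg.Lib.Transfer
open scoped Cfsg.Lib.Transfer

variable {G : Type*} [Group G] [Finite G] {m k : ℕ} {H K P Q T : Subgroup G} {a b c g x : G}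

/-- Non-central elements of prime power order have class size `m`. -/
def E (m : ℕ) (G : Type*) [Group G] : Prop := ∀ x : G, PP x → x ∉ center G → (𝐂[x]).index = m

theorem two_dvd (hT : Syl 2 T ⊤) (h : 2 ^ k ∣ H.index) : 2 ^ k ∣ H.relIndex T := by
  have h1 := h.trans (index_dvd_of_le (inf_le_left : H ⊓ T ≤ H))
  rw [← relIndex_mul_index inf_le_right, inf_relIndex_right] at h1
  exact (Nat.Coprime.pow_left k (Nat.prime_two.coprime_iff_not_dvd.2
    (relIndex_top_right T ▸ hT.not_dvd'))).dvd_of_dvd_mul_right h1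

theorem mul_mem_of (hQ : IsPGroup 2 Q) (h : ¬ 4 ∣ P.relIndex Q) (ha : a ∈ Q) (hb : b ∈ Q) (ha' : a ∉ P)
    (hb' : b ∉ P) : a * b ∈ P := by
  obtain ⟨n, hn⟩ := IsPGroup.iff_card.1 hQ
  obtain ⟨k, -, hk⟩ := (Nat.dvd_prime_pow Nat.prime_two).1 (hn ▸ BG.relIndex_dvd_card P Q)
  rcases k with _ | _ | k
  · exact absurd (relIndex_eq_one.1 hk ha) ha'
  · exact (mul_mem_iff_of_index_two (H := P.subgroupOf Q) hk (a := ⟨a, ha⟩) (b := ⟨b, hb⟩)).2
      (iff_of_false ha' hb')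
  · exact absurd ⟨2 ^ k, by rw [hk]; ring⟩ h

theorem eq_of_idx (h : H ≤ K) (e : H.index = K.index) : H = K := by
  have := relIndex_mul_index h
  rw [e] at this
  exact le_antisymm h (relIndex_eq_one.1 (Nat.eq_of_mul_eq_mul_right
    (Nat.pos_of_ne_zero index_ne_zero_of_finite) (this.trans (one_mul _).symm)))

omit [Finite G] in
theorem cent_mul (hc : c ∈ center G) : 𝐂[x * c] = 𝐂[x] := by
  ext y
  rw [mem_cent1, mem_cent1, mul_assoc, ← mem_center_iff.1 hc y, ← mul_assoc, ← mul_assoc, mul_left_inj]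

theorem syl_idx (hP : Syl 2 P H) (h : ¬ 4 ∣ H.index) : ¬ 4 ∣ P.index := fun e => by
  rw [← relIndex_mul_index hP.le] at e
  exact h ((Nat.Coprime.pow_left 2 (Nat.prime_two.coprime_iff_not_dvd.2 hP.not_dvd')).dvd_of_dvd_mul_left e)

theorem E.dih (h : E m G) (h2 : 2 ∣ m) (hT : Syl 2 T ⊤) (hg : g ∈ T) (g2 : g * g ∉ center G) :
    ¬ 4 ∣ m ∧ DC (G ⧸ center G) := by
  set π := QuotientGroup.mk' (center G) with hπd
  have hπ : Function.Surjective π := QuotientGroup.mk'_surjective _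
  have hk : ∀ {x}, π x = 1 ↔ x ∈ center G := fun {x} => QuotientGroup.eq_one_iff x
  have hE : ∀ x ∈ T, x ∉ center G → (𝐂[x]).index = m := fun x hx =>
    h x (pp_of_mem Nat.prime_two hT.pgroup hx)
  have ceq : ∀ x ∈ T, ∀ w ∈ T, x ∉ center G → w ∉ center G → 𝐂[x] ≤ 𝐂[w] → 𝐂[x] = 𝐂[w] :=
    fun x hx w hw x1 w1 e => eq_of_idx e ((hE x hx x1).trans (hE w hw w1).symm)
  have hT' : Syl 2 (T.map π) ⊤ := by have := hT.map π; rwa [map_top_of_surjective _ hπ] at this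
  obtain ⟨z, hz, z2, zc⟩ : ∃ z ∈ T, orderOf (π z) = 2 ∧ ∀ t ∈ T, π t * π z = π z * π t := by
    have h1 : 𝐙(T.map π) ≠ ⊥ := center_ne_bot_of_nil hT'.pgroup.isNilpotent
      (ne_bot_of_mem (mem_map_of_mem π (mul_mem hg hg)) fun e => g2 (hk.1 e))
    obtain ⟨⟨_, ⟨z, hz, rfl⟩, h3⟩, h4⟩ := exists_prime_orderOf_dvd_card' 2
      (pgroup_dvd_card (pgroup_of_le hT'.pgroup inf_le_left) h1)
    exact ⟨z, hz, (orderOf_coe _).trans h4, fun t ht => mem_cent.1 h3 _ (mem_map_of_mem π ht)⟩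
  have zz : π z * π z = 1 := by rw [← sq, ← z2, pow_orderOf_eq_one]
  have z1 : z ∉ center G := fun e => by rw [hk.2 e, orderOf_one] at z2; omega
  have csq : ∀ u ∈ T, u * u ∉ center G → 𝐂[u] = 𝐂[u * u] := fun u hu e =>
    ceq u hu _ (mul_mem hu hu) (fun c => e (mul_mem c c)) e
      (cent1_le_cent1_of_mem_zpowers (mul_mem (mem_zpowers u) (mem_zpowers u)))
  have cz : ∀ u ∈ T, u * u ∉ center G → 𝐂[u] = 𝐂[z] := fun u hu e => by
    have h1 : (u * u)⁻¹ * (u * z * (u * z)) ∈ center G := by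
      rw [← hk, map_mul, map_inv, inv_mul_eq_one, map_mul, map_mul, map_mul, mul_assoc, ← mul_assoc (π z),
        ← zc u hu, mul_assoc, zz, mul_one]
    have h3 : u * z * (u * z) = u * u * ((u * u)⁻¹ * (u * z * (u * z))) := by group
    have h4 : 𝐂[u * z] = 𝐂[u] := by
      rw [csq _ (mul_mem hu hz) (by rw [h3]; exact fun c => e ((mul_mem_cancel_right h1).1 c)), h3,
        cent_mul h1, ← csq u hu e]
    refine ceq u hu z hz (fun c => e (mul_mem c c)) z1 fun v hv => mem_cent1.2 ?_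
    have h5 := mem_cent1.1 (h4.ge hv)
    rwa [← mul_assoc, mem_cent1.1 hv, mul_assoc, mul_assoc, mul_right_inj] at h5
  set A := T ⊓ 𝐂(𝐂[z]) with hAd
  have hAz : A ≤ 𝐂[z] := inf_le_right.trans (cent_le_cent1 (self_mem_cent1 z))
  have hA : ∀ a ∈ A, a ∉ center G → 𝐂[a] = 𝐂[z] := fun a ha a1 =>
    (ceq z hz a ha.1 z1 a1 (le_cent1_iff.2 ha.2)).symm
  have memA : ∀ u ∈ T, 𝐂[u] = 𝐂[z] → u ∈ A := fun u hu e => ⟨hu, le_cent1_iff.1 e.ge⟩
  obtain ⟨t, ht, htA⟩ : ∃ t ∈ T, t ∉ A := by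
    by_contra! c
    have := two_dvd (k := 1) hT (H := 𝐂[z]) (by rwa [hE z hz z1, pow_one])
    rw [relIndex_eq_one.2 fun x hx => hAz (c x hx)] at this
    omega
  have sq : ∀ t ∈ T, t ∉ A → π t * π t = 1 := fun t ht e => by
    rw [← map_mul, hk]
    exact by_contra fun c => e (memA t ht (cz t ht c))
  have inv : ∀ t ∈ T, t ∉ A → ∀ a ∈ A, π t * π a * (π t)⁻¹ = (π a)⁻¹ := fun t ht e a ha => by
    have := sq _ (mul_mem ht ha.1) fun c => e ((mul_mem_cancel_right ha).1 c)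
    rw [map_mul, ← mul_assoc] at this
    rw [inv_eq_of_mul_eq_one_right (sq t ht e), eq_inv_of_mul_eq_one_left this]
  have gA := memA g hg (cz g hg g2)
  have idx : ∀ s ∈ T, ∀ t ∈ T, s ∉ A → t ∉ A → s * t ∈ A := fun s hs t ht s1 t1 => by_contra fun c => by
    have h1 := inv _ (mul_mem hs ht) c g gA
    rw [map_mul, show π s * π t * π g * (π s * π t)⁻¹ = π s * (π t * π g * (π t)⁻¹) * (π s)⁻¹ by group,
      inv t ht t1 g gA, ← map_inv, inv s hs s1 _ (inv_mem gA), map_inv, inv_inv, eq_inv_iff_mul_eq_one,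
      ← map_mul, hk] at h1
    exact g2 h1
  have hi : A.relIndex T = 2 := by
    refine index_eq_two_iff.2 ⟨⟨t, ht⟩, fun u => ?_⟩
    simp only [mem_subgroupOf, coe_mul]
    by_cases e : (u : G) ∈ A
    · exact .inr ⟨e, fun c => htA ((mul_mem_cancel_left e).1 c)⟩
    · exact .inl ⟨idx _ u.2 t ht e htA, e⟩
  have m4 : ¬ 4 ∣ m := fun e => by
    have := (two_dvd (k := 2) hT (H := 𝐂[z]) (by rwa [hE z hz z1])).trans (relIndex_dvd_of_le_left T hAz)
    rw [hi] at this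
    omega
  have A2 : IsPGroup 2 A := pgroup_of_le hT.pgroup inf_le_left
  have hAS : Syl 2 A 𝐂[z] := Syl.mk' hAz A2 fun e => by
    have h1 := mul_dvd_mul e h2
    rw [← hE z hz z1, relIndex_mul_index hAz, ← relIndex_mul_index (inf_le_left : A ≤ T), hi] at h1
    exact (relIndex_top_right T ▸ hT.not_dvd') (Nat.dvd_of_mul_dvd_mul_left two_pos h1)
  have hTA : ∀ u ∈ T, u ∈ 𝐂[z] → u ∈ A := fun u hu e =>
    (hAS.eq_of_le_pgroup (Q := T ⊓ 𝐂[z]) (le_inf inf_le_left hAz) inf_le_right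
      (pgroup_of_le hT.pgroup inf_le_left)).ge ⟨hu, e⟩
  have t1 : t ∉ center G := fun e => htA (hTA t ht (mem_cent1.2 (mem_center_iff.1 e z).symm))
  obtain ⟨B, hB, hBc⟩ : ∃ B, Syl 2 B 𝐂[t] ∧ B ≤ 𝐂(𝐂[t]) := by
    obtain ⟨P, hP, htP⟩ := Syl.exists_ge (p := 2) (M := 𝐂[t]) (pgroup_of_le hT.pgroup (zpowers_le.2 ht))
      (zpowers_le.2 (self_mem_cent1 t))
    obtain ⟨c, -, hc⟩ := hT.exists_conj_le hP.pgroup le_top
    have h1 : c * t * c⁻¹ ∈ T := hc (conj_mem_conj.2 (htP (mem_zpowers t)))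
    have h3 : c * t * c⁻¹ ∉ center G := fun e => t1 (by simpa [mul_assoc] using normal_of_characteristic _ |>.conj_mem _ e c⁻¹)
    have h4 : Syl 2 (c ⋆ P) 𝐂[c * t * c⁻¹] := conj_cent1 c t ▸ hP.conj c
    have h5 : g * g ∈ c ⋆ P := by
      have := fun e => syl_idx h4 (by rwa [hE _ h1 h3]) (Dvd.dvd.trans e (relIndex_dvd_index_of_le hc))
      by_cases e : g ∈ c ⋆ P
      exacts [mul_mem e e, mul_mem_of hT.pgroup this hg hg e e]
    have h6 := hA _ (hTA _ h1 (hA _ (mul_mem gA gA) g2 ▸ mem_cent1_symm (h4.le h5))) h3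
    have h7 : c⁻¹ ⋆ 𝐂[z] = 𝐂[t] := by rw [← h6, ← conj_cent1, inv_conj_conj]
    exact ⟨c⁻¹ ⋆ A, h7 ▸ hAS.conj c⁻¹, by rw [← h7, ← conj_centralizer]; exact conj_mono _ inf_le_right⟩
  have nB : ∀ e ∈ A, e ∉ center G → e ∉ B := fun e he e1 c =>
    htA (hTA t ht (hA e he e1 ▸ le_cent1_iff.2 (hBc c) (self_mem_cent1 t)))
  have hW : A ⊓ 𝐍(𝐂[t]) ≤ 𝐍(B) := fun n hn => mem_normalizer_of_conj_le
    (hB.ge_of_normal (norm_of_cent (cent_symm hBc)) (hB.conj_of_norm hn.2).le (hB.pi.conj n))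
  have eW : ∀ e ∈ A, orderOf (π e) = 2 → e ∈ A ⊓ 𝐍(𝐂[t]) ∧ e ∉ B := fun e he e2 => by
    have ee : π e * π e = 1 := by rw [← _root_.sq, ← e2, pow_orderOf_eq_one]
    refine ⟨⟨he, norm_of_conj_eq ?_⟩, nB e he fun c => by rw [hk.2 c, orderOf_one] at e2; omega⟩
    have h1 : t⁻¹ * (e * t * e⁻¹) ∈ center G := by
      have := inv t ht htA e he
      rw [inv_eq_of_mul_eq_one_right ee, mul_inv_eq_iff_eq_mul] at this
      rw [← hk, map_mul, map_mul, map_mul, ← this, map_inv, map_inv]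
      group
    rw [conj_cent1, ← cent_mul (x := t) h1, mul_inv_cancel_left]
  have zA : z ∈ A := memA z hz rfl
  have cyc : IsCyclic (A.map π) := by
    refine cyclic_of_uniq (A2.map π) (abelian_map π (abelian_iff.2 (inf_le_right.trans (cent_anti hAz)))) z2 ?_
    rintro _ ⟨e, he, rfl⟩ e2
    have h1 : e * z ∈ B := mul_mem_of (pgroup_of_le A2 inf_le_left) (fun c => syl_idx hB
      (by rwa [hE t ht t1]) (c.trans (by
        rw [← Coprime.relIndex_sup_of_le_normalizer hW]; exact relIndex_dvd_index_of_le le_sup_left)))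
      (eW e he e2).1 (eW z zA z2).1 (eW e he e2).2 (eW z zA z2).2
    have h3 : π (e * z) = 1 := hk.2 (by_contra fun c => nB _ (mul_mem he zA) c h1)
    rw [map_mul, ← zz] at h3
    exact mul_right_cancel h3
  obtain ⟨_, ⟨a, ha, rfl⟩, e⟩ := cyclic_iff.1 cyc
  obtain ⟨n, hn⟩ := A2 ⟨a, ha⟩
  obtain ⟨j, -, hj⟩ := (Nat.dvd_prime_pow Nat.prime_two).1 ((orderOf_map_dvd π a).trans
    (orderOf_dvd_of_pow_eq_one (show a ^ 2 ^ n = 1 from congrArg Subtype.val hn)))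
  obtain ⟨S, hS⟩ := Syl.top_iff_sylow.1 hT'
  rcases j with _ | j
  · have := e.ge (mem_map_of_mem π zA)
    rw [orderOf_eq_one_iff.1 hj, zpowers_one_eq_bot, mem_bot, hk] at this
    exact absurd this z1
  refine ⟨m4, DC.of_mc (S := S) (a := π a) (b := π t) (m := j) ⟨hj, fun c => ?_, ?_,
    by simpa using inv t ht htA a ha, by simpa using sq t ht htA, by simp⟩⟩
  · obtain ⟨u, hu, c⟩ := e.le c
    have h1 : u⁻¹ * t ∈ center G := by rw [← hk, map_mul, map_inv, c, inv_mul_cancel]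
    exact htA ((mul_mem_cancel_left (inv_mem hu)).1 (hTA _ (mul_mem (inv_mem hu.1) ht)
      (mem_cent1.2 (mem_center_iff.1 h1 z).symm)))
  · rw [e, hS]
    refine le_antisymm (sup_le (map_mono inf_le_left) (zpowers_le.2 (mem_map_of_mem π ht))) ?_
    rintro _ ⟨u, hu, rfl⟩
    by_cases c : u ∈ A
    · exact mem_sup_left (mem_map_of_mem π c)
    · exact (mul_mem_cancel_right (mem_sup_right (mem_zpowers (π t)))).1
        (mem_sup_left (map_mul π u t ▸ mem_map_of_mem π (idx u hu t ht c htA)))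

end Cfsg.Lib.PPI
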