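import Cfsg.Agent.Lib.PPI.Bas
import Cfsg.Agent.Lib.Inv.ZStarElt
import Cfsg.Agent.Lib.Comp.PComponent

/-!
# The case that a Sylow 2-subgroup is abelian modulo the centre
-/

set_option autoImplicit false

namespace Cfsg.Lib.PPI

open Subgroup Cfsg.Lib Cfsg.Lib.BG Cfsg.Lib.JR Cfsg.Lib.GW Cfsg.Lib.FGS Cfsg.Lib.Transfer Cfsg.Lib.Comp
open scoped MatrixGroups commutatorElement Cfsg.Lib.Transfer

variable {G : Type*} [Group G] [Finite G] {m : ℕ}

theorem exists_simple (hA : Ab2 G) (hO : pPrimeCore 2 G = ⊥) (hs : ¬ Group.IsSolvable G) :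
    ∃ L : Subgroup G, IsComponent L ∧ center L = ⊥ ∧ pPrimeCore 2 L = ⊥ := by
  obtain ⟨T⟩ : Nonempty (Sylow 2 G) := inferInstance
  obtain ⟨L, hL⟩ : ∃ L : Subgroup G, IsComponent L := by
    by_contra! c
    have h1 := centralizer_fitting_le_iff.2 (layer_eq_bot_iff.2 c)
    rw [Core.fittingSubgroup_eq_pCore (p := 2) hO] at h1
    have h2 : (T : Subgroup G) ≤ pCore 2 G :=
      (hA.le_cent T.isPGroup' ((Core.pCore_isPGroup 2 G).le_sylow_of_normal T)).trans h1
    have : Group.IsSolvable (G ⧸ pCore 2 G) := PF.isSolvable_of_odd _ (Nat.not_even_iff_odd.1 fun e =>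
      T.not_dvd_index (e.two_dvd.trans (index_dvd_of_le h2)))
    have := (Core.pCore_isPGroup 2 G).isNilpotent
    exact hs (Group.isSolvable_of_ker_le_range (pCore 2 G).subtype (QuotientGroup.mk' (pCore 2 G)) (by simp))
  have hOL : pPrimeCore 2 L = ⊥ := by
    rw [pPrimeCore_eq_subgroupOf_of_isSubnormal hL.1, hO, bot_subgroupOf]
  refine ⟨L, hL, ?_, hOL⟩
  obtain ⟨P⟩ : Nonempty (Sylow 2 L) := inferInstance
  have h1 := center_inf_commutator_inf_sylow_le P
  rw [isQuasisimple_commutator_eq_top hL.2, abelian_iff_der.1 ((hA.sub L).comm P.isPGroup'), inf_top_eq] at h1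
  exact le_bot_iff.1 ((le_inf le_rfl (Core.center_le_fittingSubgroup.trans
    ((Core.fittingSubgroup_eq_pCore hOL).le.trans ((Core.pCore_isPGroup 2 L).le_sylow_of_normal P)))).trans h1)

theorem two (hO : pPrimeCore 2 G = ⊥) {T : Subgroup G} (hT : Syl 2 T ⊤)
    (hc : ∀ s ∈ T, ∀ t ∈ T, ⁅s, t⁆ ∈ center G) (hD : D m G) (h2 : 2 ∣ m)
    (hm : ∀ x ∈ T, x ∉ center G → ∀ k, 2 ^ k ∣ m → 2 ^ k ∣ (𝐂[x]).relIndex T) : Group.IsSolvable G := by
  by_contra hs
  set π := QuotientGroup.mk' (center G) with hπd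
  have hπ : Function.Surjective π := QuotientGroup.mk'_surjective _
  have hk : π.ker = center G := QuotientGroup.ker_mk' _
  have hZ : IsPGroup 2 (center G) := (Core.pCore_isPGroup 2 G).to_le
    (Core.center_le_fittingSubgroup.trans (Core.fittingSubgroup_eq_pCore hO).le)
  have hT' : Syl 2 (T.map π) ⊤ := by have := hT.map π; rwa [map_top_of_surjective _ hπ] at this
  have hA : Ab2 (G ⧸ center G) := by
    obtain ⟨S, hS⟩ := Syl.top_iff_sylow.1 hT'
    refine ab2_of_sylow S ⟨⟨fun ⟨a, ha⟩ ⟨b, hb⟩ => Subtype.ext ?_⟩⟩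
    obtain ⟨a, ha', rfl⟩ := hS.le ha
    obtain ⟨b, hb', rfl⟩ := hS.le hb
    have := hk.ge (hc a ha' b hb')
    rw [MonoidHom.mem_ker, map_commutatorElement, commutatorElement_eq_one_iff_mul_comm] at this
    exact this
  obtain ⟨L, hL, hZL, hOL⟩ := exists_simple hA (Inv.pPrimeCore_quotient_central_eq_bot _ hZ le_rfl hO)
    fun _ => have := hZ.isNilpotent; hs (Group.isSolvable_of_ker_le_range (center G).subtype π (by simp [hk]))
  have := isSimpleGroup_of_isQuasisimple hL.2 hZL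
  have hnc := isQuasisimple_not_isMulCommutative hL.2
  obtain ⟨v, ⟨⟨x, hx, rfl⟩, hxL⟩, v1⟩ := exists_ne_one ((Ab.syl_inf_sn hT' (Core.subnormalIn_top.2 hL.1)).ne_bot'
    (Small.two_dvd_card_of_simple hnc))
  have hLC : ∀ y ∈ L, y ∈ 𝐂(L) → y = 1 := fun y hy hc => by
    have : y ∈ L ⊓ 𝐂(L) := ⟨hy, hc⟩
    rwa [← map_center_subtype, hZL, Subgroup.map_bot, mem_bot] at this
  have hN : T.map π ≤ 𝐍(L) := fun t ht => by
    rw [← conj_eq_self_iff]
    by_contra hne
    refine v1 (hLC _ hxL (comm_eq_bot_iff.1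
      (isComponent_commutator_eq_bot_of_ne (isComponent_map_conj hL t) hL hne) ?_))
    have e : t * π x * t⁻¹ = π x := by
      rw [hA _ hT'.pgroup t ht _ (mem_map_of_mem π hx), mul_inv_cancel_right]
    exact e ▸ conj_mem_conj.2 hxL
  have hxZ : x ∉ center G := fun h => v1 (by rwa [← MonoidHom.mem_ker, hk])
  set X := L.comap π with hX
  have hKL : ⁅X, X⁆.map π = L := by
    rw [map_commutator, hX, map_comap_eq_self_of_surjective hπ, isComponent_commutator_self hL]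
  have hXK : ⁅X, X⁆ ⊔ center G = X := by rw [← hk, ← comap_map_eq, hKL]
  have hKK : ⁅⁅X, X⁆, ⁅X, X⁆⁆ = ⁅X, X⁆ :=
    (commutator_le_of_sup_centralizer (commutator_le_self X) (center_le_centralizer _) hXK).symm
  obtain ⟨y, hy, z, hz, rfl⟩ := mem_sup_of_normal_right.1 (hXK.ge (show x ∈ X from hxL))
  rcases walter hnc (hA.sub L) with ⟨F, _, _, h4, ⟨e⟩⟩ | ⟨F, _, _, t, E, N, -, j, -⟩
  · rw [← Nat.card_eq_fintype_card] at h4
    have hDC : (𝐂(L)).comap π ≤ 𝐂[y * z] := by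
      have h1 : ⁅(𝐂(L)).comap π, ⁅X, X⁆⁆ ≤ center G := by
        refine le_trans ?_ hk.le
        rw [← Subgroup.map_eq_bot_iff, map_commutator, hKL, comm_eq_bot_iff]
        exact map_comap_le _ _
      have h3 := comm_eq_bot_iff.1 (commutator_eq_bot_of_perfect hKK
        (comm_eq_bot_iff.2 (h1.trans (center_le_centralizer _))))
      exact fun c hc => mem_cent1.2 (by
        rw [← mul_assoc, ← mem_cent.1 (h3 hc) y hy, mul_assoc, mul_assoc, mem_center_iff.1 hz c])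
    have h1 : T.map π ≤ 𝐂(L) ⊔ L := fun t ht => by
      obtain ⟨k, hk⟩ := hT'.pgroup ⟨t, ht⟩
      obtain ⟨n, hn, hc⟩ := hA.exists_inner hZL hOL (hN ht) (congrArg Subtype.val hk)
      exact (mul_mem_cancel_left (mem_sup_right (inv_mem hn))).1 (mem_sup_left hc)
    have h3 : (𝐂(L)).relIndex (T.map π) ∣ Nat.card L := by
      refine (relIndex_dvd_of_norm h1 (sup_le (le_norm _) (norm_cent (le_norm _)))).trans ?_
      rw [Coprime.relIndex_sup_of_le_normalizer (norm_cent (le_norm _))]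
      exact BG.relIndex_dvd_card _ _
    obtain ⟨n, hn⟩ := IsPGroup.iff_card.1 hT'.pgroup
    obtain ⟨k, -, hk⟩ := (Nat.dvd_prime_pow Nat.prime_two).1 (hn ▸ BG.relIndex_dvd_card 𝐂(L) (T.map π))
    have h5 := hm _ hx hxZ k (((oc_psl h4).equiv e).dvd ((hD.surj hπ).sn hL.1) (hk ▸ h3))
    rw [← hk, ← relIndex_comap, ← inf_eq_left.2 hDC, ← relIndex_inf_mul_relIndex] at h5
    have h6 := Nat.eq_one_of_dvd_one (Nat.dvd_of_mul_dvd_mul_right
      (Nat.pos_of_ne_zero (index_ne_zero_of_finite)) (h5.trans (one_mul _).symm.dvd))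
    exact v1 (hLC _ hxL (relIndex_eq_one.1 h6 ⟨self_mem_cent1 _, hx⟩))
  · let f : ↥⁅X, X⁆ →* L := (π.comp ⁅X, X⁆.subtype).codRestrict L fun a => commutator_le_self X a.2
    have hfk : ∀ a ∈ f.ker, (a : G) ∈ center G := fun a ha => hk ▸ congrArg Subtype.val ha
    obtain ⟨S, hS⟩ := j.exists_syl
    have h0 := cover_eight (by
        rw [← map_subtype_inj, map_subtype_commutator, hKK, ← MonoidHom.range_eq_map, range_subtype]) f
      (fun ⟨b, hb⟩ => by
        obtain ⟨a, ha, rfl⟩ := hKL.ge hb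
        exact ⟨⟨a, ha⟩, rfl⟩)
      (fun a ha => mem_center_iff.2 fun b => Subtype.ext (mem_center_iff.1 (hfk a ha) b))
      (fun ⟨a, ha⟩ => by
        obtain ⟨k, hk⟩ := hZ ⟨a, hfk a ha⟩
        exact ⟨k, Subtype.ext (Subtype.ext (show (a : G) ^ 2 ^ k = 1 from congrArg Subtype.val hk))⟩)
      S (j.syl_elem (Syl.of_sylow_top S) hS) (j.syl_card (Syl.of_sylow_top S) hS) (pRes_of_simple hnc)
    have h1 : T ≤ 𝐂[y * z] := fun s hs => by
      have h3 : s ∈ 𝐍(X) := le_normalizer_comap π (hN (mem_map_of_mem π hs))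
      have h4 : ⁅s, y * z⁆ ∈ ⁅X, X⁆ := by
        rw [show ⁅s, y * z⁆ = s * y * s⁻¹ * y⁻¹ by
          rw [commutatorElement_def, mul_inv_rev, mul_assoc _ s⁻¹, ← mul_assoc s⁻¹, mem_center_iff.1 (inv_mem hz),
            ← mul_assoc s y]
          group]
        exact mul_mem ((mem_normalizer_iff.1 (norm_comm (A := zpowers s) (zpowers_le.2 h3) (zpowers_le.2 h3)
          (mem_zpowers s)) y).1 hy) (inv_mem hy)
      have h5 : (⟨_, h4⟩ : ↥⁅X, X⁆) ∈ f.ker := Subtype.ext (show _ ∈ π.ker from hk.ge (hc s hs _ hx))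
      rw [h0, mem_bot] at h5
      exact mem_cent1.2 (commutatorElement_eq_one_iff_mul_comm.1 (congrArg Subtype.val h5))
    have := hm _ hx hxZ 1 (by simpa using h2)
    rw [relIndex_eq_one.2 h1] at this
    omega

end Cfsg.Lib.PPI
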